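import Mathlib

/-! `H²(Q, kˣ) = 0` from `H³(Q, ℤ) = 0`. -/

set_option autoImplicit false
set_option backward.isDefEq.respectTransparency false

open CategoryTheory

namespace Groth.Agent.GalCohX

variable {Q : Type} [Group Q]

lemma d2_apply (f : (Fin 2 → Q) → ℤ) (x : Fin 3 → Q) :
    inhomogeneousCochains.d (Rep.trivial ℤ Q ℤ) 2 f x =
      f ![x 1, x 2] - f ![x 0 * x 1, x 2] + f ![x 0, x 1 * x 2] - f ![x 0, x 1] := by
  rw [inhomogeneousCochains.d_hom_apply, Fin.sum_univ_three]
  have e0 : (fun i : Fin 2 => x i.succ) = ![x 1, x 2] := by ext i; fin_cases i <;> rfl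
  have e1 : Fin.contractNth (0 : Fin 3) (· * ·) x = ![x 0 * x 1, x 2] := by ext i; fin_cases i <;> rfl
  have e2 : Fin.contractNth (1 : Fin 3) (· * ·) x = ![x 0, x 1 * x 2] := by ext i; fin_cases i <;> rfl
  have e3 : Fin.contractNth (2 : Fin 3) (· * ·) x = ![x 0, x 1] := by ext i; fin_cases i <;> rfl
  rw [e0, e1, e2, e3]
  simp
  ring

/-- The coboundary of an integer 2-cochain. -/
def dd (e : Q → Q → ℤ) (g h j : Q) : ℤ := e h j - e (g * h) j + e g (h * j) - e g h

lemma exists_cochain (hQ : Subsingleton (groupCohomology (Rep.trivial ℤ Q ℤ) 3))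
    (e : Q → Q → ℤ) (M : ℤ) (hM : M ≠ 0) (he : ∀ g h j, M ∣ dd e g h j) :
    ∃ f : Q → Q → ℤ, ∀ g h j, dd e g h j = M * dd f g h j := by
  set C := groupCohomology.inhomogeneousCochains (Rep.trivial ℤ Q ℤ)
  choose t ht using he
  let T : C.X 3 := fun x : Fin 3 → Q => t (x 0) (x 1) (x 2)
  have hT : C.d 3 4 T = 0 := by
    have h2 : C.d 3 4 (C.d 2 3 (fun x : Fin 2 → Q => e (x 0) (x 1))) = 0 := by
      rw [← ConcreteCategory.comp_apply, C.d_comp_d]; rfl
    have h3 : C.d 2 3 (fun x : Fin 2 → Q => e (x 0) (x 1)) = M • T := by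
      rw [groupCohomology.inhomogeneousCochains.d_def]
      funext x
      change _ = M * t (x 0) (x 1) (x 2)
      rw [← ht, d2_apply]
      rfl
    rw [h3, map_smul] at h2
    funext y
    exact (mul_eq_zero.1 (congrFun h2 y : M * _ = 0)).resolve_left hM
  have hex : C.ExactAt 3 := by
    rw [HomologicalComplex.exactAt_iff_isZero_homology]
    exact ModuleCat.isZero_of_subsingleton (M := groupCohomology (Rep.trivial ℤ Q ℤ) 3)
  rw [C.exactAt_iff' 2 3 4 (by simp) (by simp), ShortComplex.moduleCat_exact_iff] at hex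
  obtain ⟨F, hF⟩ := hex T hT
  refine ⟨fun g h => F ![g, h], fun g h j => ?_⟩
  rw [ht]
  congr 1
  have := congrFun hF ![g, h, j]
  change C.d 2 3 F ![g, h, j] = t g h j at this
  rw [groupCohomology.inhomogeneousCochains.d_def, d2_apply] at this
  exact this.symm

lemma exists_dlog (hQ : Subsingleton (groupCohomology (Rep.trivial ℤ Q ℤ) 3)) [Finite Q]
    (k : Type) [Field k] [IsSepClosed k] [NeZero (Nat.card Q : k)] (c : Q → Q → kˣ)
    (hc : ∀ g h j, c (g * h) j * c g h = c h j * c g (h * j)) :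
    ∃ x : Q → kˣ, ∀ g h, x h / x (g * h) * x g = c g h := by
  classical
  cases nonempty_fintype Q
  have hN : Nat.card Q = Fintype.card Q := Nat.card_eq_fintype_card
  have root : ∀ u : kˣ, ∃ v : kˣ, v ^ Nat.card Q = u := fun u => by
    obtain ⟨z, hz⟩ := IsSepClosed.exists_pow_nat_eq (u : k) (Nat.card Q)
    have : z ≠ 0 := fun h => u.ne_zero (by rw [← hz, h, zero_pow Nat.card_pos.ne'])
    exact ⟨Units.mk0 z this, Units.ext (by simpa using hz)⟩
  choose r hr using root
  let H : Q → kˣ := fun g => ∏ j, c g j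
  have hH : ∀ g h, H (g * h) * c g h ^ Nat.card Q = H h * H g := fun g h => by
    have := congrArg (fun F : Q → kˣ => ∏ j, F j) (funext (hc g h))
    simp only [Finset.prod_mul_distrib, Finset.prod_const, Finset.card_univ] at this
    rw [hN]
    exact this.trans (congrArg (H h * ·) (Equiv.prod_comp (Equiv.mulLeft h) (c g)))
  let c' : Q → Q → kˣ := fun g h => c g h / (r (H h) / r (H (g * h)) * r (H g))
  have hc' : ∀ g h, c' g h ∈ rootsOfUnity (Nat.card Q) k := fun g h => by
    rw [mem_rootsOfUnity]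
    simp only [c', div_pow, mul_pow, hr]
    rw [div_eq_one, div_mul_eq_mul_div, eq_div_iff_mul_eq', mul_comm, ← hH g h]
  obtain ⟨⟨ζ, hζ⟩, hgen⟩ := IsCyclic.exists_generator (α := rootsOfUnity (Nat.card Q) k)
  have hex : ∀ g h, ∃ e : ℤ, ζ ^ e = c' g h := fun g h => by
    obtain ⟨e, he⟩ := hgen ⟨_, hc' g h⟩
    exact ⟨e, congrArg Subtype.val he⟩
  choose e he using hex
  have hM : (orderOf ζ : ℤ) ≠ 0 := by
    have : IsOfFinOrder ζ := isOfFinOrder_iff_pow_eq_one.2 ⟨_, Nat.card_pos, hζ⟩
    exact_mod_cast this.orderOf_pos.ne'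
  have hc'c : ∀ g h j, c' h j / c' (g * h) j * c' g (h * j) / c' g h = 1 := fun g h j => by
    have := hc g h j
    simp only [c', mul_assoc]
    generalize c (g * h) j = a at *
    generalize c g h = b at *
    generalize c h j = a' at *
    generalize c g (h * j) = b' at *
    generalize r (H g) = u1, r (H h) = u2, r (H j) = u3, r (H (g * h)) = u4, r (H (h * j)) = u5,
      r (H (g * (h * j))) = u6
    apply_fun Additive.ofMul
    apply_fun Additive.ofMul at this
    simp only [ofMul_mul, ofMul_div, ofMul_one] at this ⊢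
    generalize Additive.ofMul a = A, Additive.ofMul b = B, Additive.ofMul a' = A', Additive.ofMul b' = B' at *
    rw [eq_sub_iff_add_eq.2 this]
    abel
  obtain ⟨f, hf⟩ := exists_cochain hQ e (orderOf ζ) hM fun g h j => by
    rw [orderOf_dvd_iff_zpow_eq_one, dd, zpow_sub, zpow_add, zpow_sub, he, he, he, he, ← div_eq_mul_inv,
      ← div_eq_mul_inv]
    exact hc'c g h j
  let e' : Q → Q → ℤ := fun g h => e g h - (orderOf ζ : ℤ) * f g h
  let b : Q → ℤ := fun g => ∑ j, e' g j
  have hb : ∀ g h, b h - b (g * h) + b g = (Nat.card Q : ℤ) * e' g h := fun g h => by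
    have h0 : ∀ j, e' h j - e' (g * h) j + e' g (h * j) - e' g h = 0 := fun j => by
      have := hf g h j
      simp only [dd, e'] at this ⊢
      linarith
    have h1 := Finset.sum_eq_zero (s := Finset.univ) fun j _ => h0 j
    simp only [Finset.sum_sub_distrib, Finset.sum_add_distrib, Finset.sum_const, Finset.card_univ,
      nsmul_eq_mul] at h1
    have h2 : ∑ j, e' g (h * j) = b g := Equiv.sum_comp (Equiv.mulLeft h) (e' g)
    rw [h2] at h1
    rw [hN]
    linarith
  refine ⟨fun g => r (H g) * r ζ ^ b g, fun g h => ?_⟩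
  have h3 : r ζ ^ (b h - b (g * h) + b g) = c' g h := by
    rw [hb, zpow_mul, zpow_natCast, hr, zpow_sub, zpow_mul, zpow_natCast, pow_orderOf_eq_one, one_zpow,
      inv_one, mul_one, he]
  rw [zpow_add, zpow_sub, ← div_eq_mul_inv] at h3
  change _ = c g h
  calc r (H h) * r ζ ^ b h / (r (H (g * h)) * r ζ ^ b (g * h)) * (r (H g) * r ζ ^ b g)
      = (r (H h) / r (H (g * h)) * r (H g)) * (r ζ ^ b h / r ζ ^ b (g * h) * r ζ ^ b g) := by
        rw [mul_div_mul_comm]; ac_rfl
    _ = _ := by rw [h3]; exact mul_div_cancel _ _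

theorem two_units (Q : Type) [Group Q] [Finite Q]
    (hQ : Subsingleton (groupCohomology (Rep.trivial ℤ Q ℤ) 3)) (k : Type) [Field k] [IsSepClosed k]
    (p : ℕ) [CharP k p] (hp : ¬ p ∣ Nat.card Q) :
    Subsingleton (groupCohomology (Rep.trivial ℤ Q (Additive kˣ)) 2) := by
  have : NeZero (Nat.card Q : k) := ⟨fun h => hp ((CharP.cast_eq_zero_iff k p _).1 h)⟩
  refine ⟨fun a b => ?_⟩
  suffices ∀ z : groupCohomology.H2 (Rep.trivial ℤ Q (Additive kˣ)), z = 0 from (this a).trans (this b).symm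
  intro z
  induction z using groupCohomology.H2_induction_on with
  | h c =>
    rw [groupCohomology.H2π_eq_zero_iff]
    obtain ⟨x, hx⟩ := exists_dlog hQ k (fun g h => Additive.toMul (c (g, h))) fun g h j => by
      exact congrArg Additive.toMul ((groupCohomology.mem_cocycles₂_iff c).1 c.2 g h j)
    exact ⟨fun g => Additive.ofMul (x g), funext fun y => congrArg Additive.ofMul (hx y.1 y.2)⟩

end Groth.Agent.GalCohX
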